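import Cfsg.Agent.Lib.SpecD4Two.Square.Check

/-!
The certificate of double coset number 1.
-/

set_option autoImplicit false
set_option maxRecDepth 100000
set_option maxHeartbeats 4000000
set_option Elab.async false

namespace CfsgLib.SpecD4Two.Square

/-- A certificate. -/
def cert1_0 : Cert := .node [.node [.node [.node [.node [.node [.ord 4, .link 17536 0 0], .node [.ord 16, .link 17536 0 0]], .node [.node [.ord 19, .link 24640 0 0], .node [.ord 5, .ord 1]], .node [.node [.ord 4, .link 17536 0 0], .node [.ord 1, .link 17536 0 0]], .node [.node [.ord 3, .link 24640 0 0], .node [.ord 24, .link 6912 0 0]], .node [.node [.ord 2, .link 17536 0 0], .node [.ord 3, .link 17536 0 0]], .node [.node [.ord 28, .link 24640 0 0], .node [.ord 4, .link 6912 0 0]], .node [.node [.ord 7, .link 17536 0 0], .node [.ord 13, .link 17536 0 0]], .node [.node [.ord 7, .link 24640 0 0], .node [.ord 9, .link 20992 0 0]]], .link 128 0 1024, .link 256 0 2048, .link 384 0 3072, .link 4096 0 4096, .link 4224 0 5120, .link 6144 0 6144, .link 896 0 7168], .link 64 0 8192], .node [.node [.node [.node [.node [.ord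 3, .ord 8], .node [.ord 4, .link 24768 0 0]], .node [.node [.ord 13, .link 17536 0 0], .node [.ord 9, .link 17536 0 0]], .link 2304 0 16384, .link 2304 1 16384, .link 20992 0 16384, .link 20992 1 16384, .link 6912 0 16384, .link 6912 1 16384], .link 128 0 9216, .link 256 0 2048, .link 384 0 11264, .link 4096 0 16384, .link 4224 0 25600, .link 6144 0 16384, .link 896 0 15360], .link 64 0 8192], .node [.node [.node [.node [.node [.ord 8, .ord 27], .link 18688 0 16384], .link 6912 0 0, .link 17536 0 24576, .link 24448 0 8192, .link 14272 0 8192, .link 9664 0 0, .link 29504 0 0, .link 24896 0 24576], .link 128 0 1024, .link 24640 0 13312, .link 384 0 3072, .link 4096 0 21504, .link 4224 0 20480, .link 6144 0 15360, .link 896 0 15360], .link 64 0 8192], .node [.node [.node [.node [.node [.ord 9, .ord 2], .node [.ord 3, .link 29632 0 0]], .node [.node [.ord 1, .link 29632 0 0], .node [.ord 14, .link 15936 0 0]], .link 17536 0 8192, .link 17536 1 24576, .link 8640 1 16384, .link 8640 0 0, .link 6912 1 24576, .link 6912 0 24576], .link 128 0 9216, .link 24768 0 7168, .link 24640 0 14336, .link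 4096 0 9216, .link 4224 0 0, .link 6144 0 17408, .link 896 0 7168], .link 64 0 8192], .node [.node [.node [.node [.node [.ord 15, .ord 32], .link 20992 0 16384], .link 6912 0 24576, .link 27456 0 24576, .link 12352 0 0, .link 17536 0 24576, .link 24448 0 16384, .link 12224 0 16384, .link 29888 0 24576], .link 128 0 1024, .link 256 0 10240, .link 384 0 11264, .link 24640 0 15360, .link 24768 0 14336, .link 6144 0 23552, .link 896 0 15360], .link 64 0 8192], .node [.node [.node [.node [.node [.ord 3, .ord 17], .node [.ord 6, .link 31168 0 0]], .node [.node [.ord 6, .link 31168 0 0], .node [.ord 12, .link 12096 0 0]], .link 28864 1 24576, .link 28864 0 8192, .link 17536 0 8192, .link 17536 1 24576, .link 6912 1 0, .link 6912 0 0], .link 128 0 9216, .link 256 0 10240, .link 384 0 3072, .link 4096 0 8192, .link 24640 0 10240, .link 6144 0 9216, .link 896 0 7168], .link 64 0 8192], .node [.node [.node [.node [.node [.ord 3, .ord 7], .link 23296 0 16384], .link 2304 0 24576, .link 30144 0 16384, .link 31936 0 24576, .link 12608 0 24576, .link 14400 0 0, .link 17536 0 24576, .link 19840 0 16384],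 .link 128 0 1024, .link 256 0 10240, .link 384 0 11264, .link 4096 0 13312, .link 4224 0 12288, .link 24640 0 11264, .link 896 0 7168], .link 64 0 8192], .node [.node [.node [.node [.node [.ord 5, .ord 6], .node [.ord 11, .link 13632 0 0]], .node [.node [.ord 0, .link 8064 0 0], .node [.ord 1, .link 13632 0 0]], .link 9152 1 16384, .link 9152 0 0, .link 30912 1 24576, .link 30912 0 8192, .link 17536 0 8192, .link 17536 1 24576], .link 128 0 9216, .link 256 0 10240, .link 384 0 3072, .link 4096 0 17408, .link 4224 0 24576, .link 6144 0 8192, .link 24640 0 12288], .link 64 0 8192]]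

/-- A certificate. -/
def cert1 : Cert := .node [cert1_0, .link 4 0 0, .link 1 0 0, .link 5 0 0, .link 2 0 0, .link 6 0 0, .link 3 0 0]

theorem chk1 : chkSq gCode 7 (nwCode 1) cert1 = true := by decide +kernel

end CfsgLib.SpecD4Two.Square
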