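import Cfsg.Agent.Lib.SpecD4Two.Square.Check

/-!
The certificate of the longest double coset, part 4.
-/

set_option autoImplicit false
set_option maxRecDepth 100000
set_option maxHeartbeats 4000000
set_option Elab.async false

namespace CfsgLib.SpecD4Two.Square

/-- A certificate. -/
def cert11P4_0 : Cert := .node [.node [.node [.node [.ord 39, .ord 0], .node [.ord 3, .ord 4]], .node [.node [.ord 22, .ord 25], .node [.ord 6, .ord 0]], .node [.node [.ord 0, .ord 31], .node [.ord 10, .ord 7]], .node [.node [.ord 9, .ord 20], .node [.ord 6, .ord 2]], .node [.node [.ord 1, .ord 0], .node [.ord 15, .ord 20]], .node [.node [.ord 6, .ord 17], .node [.ord 2, .ord 0]], .node [.node [.ord 0, .ord 3], .node [.ord 11, .ord 3]], .node [.node [.ord 23, .ord 30], .node [.ord 0, .ord 7]]], .node [.node [.node [.ord 2, .ord 3], .node [.ord 37, .ord 6]], .node [.node [.ord 3, .ord 24], .node [.ord 5, .ord 7]], .node [.node [.ord 6, .ord 1], .node [.ord 0, .ord 34]], .node [.node [.ord 9, .ord 0], .node [.ord 25, .ord 10]], .node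 [.node [.ord 46, .ord 7], .node [.ord 4, .ord 4]], .node [.node [.ord 4, .ord 43], .node [.ord 11, .ord 8]], .node [.node [.ord 11, .ord 21], .node [.ord 39, .ord 16]], .node [.node [.ord 24, .ord 6], .node [.ord 2, .ord 15]]], .node [.node [.node [.ord 11, .ord 18], .node [.ord 1, .ord 9]], .node [.node [.ord 23, .ord 21], .node [.ord 8, .ord 0]], .node [.node [.ord 8, .ord 4], .node [.ord 19, .ord 7]], .node [.node [.ord 19, .ord 15], .node [.ord 38, .ord 3]], .node [.node [.ord 0, .ord 9], .node [.ord 6, .ord 10]], .node [.node [.ord 19, .ord 5], .node [.ord 15, .ord 7]], .node [.node [.ord 7, .ord 11], .node [.ord 7, .ord 24]], .node [.node [.ord 4, .ord 4], .node [.ord 1, .ord 14]]], .node [.node [.node [.ord 5, .ord 13], .node [.ord 39, .ord 15]], .node [.node [.ord 0, .ord 3], .node [.ord 1, .ord 17]], .node [.node [.ord 13, .ord 6], .node [.ord 11, .ord 3]], .node [.node [.ord 15, .ord 17], .node [.ord 7, .ord 8]], .node [.node [.ord 15, .ord 7], .node [.ord 3, .ord 5]], .node [.node [.ord 32, .ord 11],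 .node [.ord 15, .ord 1]], .node [.node [.ord 9, .ord 3], .node [.ord 4, .ord 4]], .node [.node [.ord 0, .ord 10], .node [.ord 10, .ord 7]]], .node [.node [.node [.ord 25, .ord 0], .node [.ord 5, .ord 7]], .node [.node [.ord 19, .ord 1], .node [.ord 5, .ord 20]], .node [.node [.ord 2, .ord 2], .node [.ord 10, .ord 5]], .node [.node [.ord 1, .ord 5], .node [.ord 11, .ord 3]], .node [.node [.ord 16, .ord 8], .node [.ord 13, .ord 9]], .node [.node [.ord 4, .ord 2], .node [.ord 8, .ord 4]], .node [.node [.ord 36, .ord 6], .node [.ord 13, .ord 19]], .node [.node [.ord 7, .ord 2], .node [.ord 6, .ord 0]]], .node [.node [.node [.ord 3, .ord 5], .node [.ord 7, .ord 3]], .node [.node [.ord 11, .ord 23], .node [.ord 27, .ord 10]], .node [.node [.ord 31, .ord 2], .node [.ord 18, .ord 5]], .node [.node [.ord 3, .ord 2], .node [.ord 4, .ord 4]], .node [.node [.ord 26, .ord 10], .node [.ord 1, .ord 4]], .node [.node [.ord 0, .ord 23], .node [.ord 2, .ord 2]], .node [.node [.ord 18, .ord 7], .node [.ord 3, .ord 10]], .node [.node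 [.ord 0, .ord 1], .node [.ord 2, .ord 2]]], .node [.node [.node [.ord 6, .ord 14], .node [.ord 3, .ord 23]], .node [.node [.ord 6, .ord 12], .node [.ord 16, .ord 8]], .node [.node [.ord 9, .ord 4], .node [.ord 1, .ord 17]], .node [.node [.ord 12, .ord 3], .node [.ord 31, .ord 19]], .node [.node [.ord 1, .ord 9], .node [.ord 11, .ord 5]], .node [.node [.ord 18, .ord 21], .node [.ord 3, .ord 0]], .node [.node [.ord 2, .ord 0], .node [.ord 24, .ord 8]], .node [.node [.ord 4, .ord 4], .node [.ord 19, .ord 3]]], .node [.node [.node [.ord 1, .ord 25], .node [.ord 31, .ord 9]], .node [.node [.ord 2, .ord 0], .node [.ord 1, .ord 7]], .node [.node [.ord 11, .ord 10], .node [.ord 25, .ord 1]], .node [.node [.ord 30, .ord 1], .node [.ord 10, .ord 12]], .node [.node [.ord 10, .ord 13], .node [.ord 24, .ord 6]], .node [.node [.ord 0, .ord 1], .node [.ord 9, .ord 6]], .node [.node [.ord 1, .ord 33], .node [.ord 27, .ord 3]], .node [.node [.ord 19, .ord 8], .node [.ord 1, .ord 11]]]]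

theorem chk11P4_0 :
    chkSq gCode 4 (mm (mm (mm (nwCode 11) (wordC gCode ((reps 0).getD 0 0))) (wordC gCode ((reps 1).getD 4 0)))
      (wordC gCode ((reps 2).getD 0 0))) cert11P4_0 = true := by
  decide +kernel

/-- A certificate. -/
def cert11P4_1 : Cert := .node [.node [.node [.node [.ord 8, .ord 22], .node [.ord 24, .ord 10]], .node [.node [.ord 1, .ord 12], .node [.ord 6, .ord 2]], .node [.node [.ord 13, .ord 0], .node [.ord 18, .ord 17]], .node [.node [.ord 6, .ord 10], .node [.ord 0, .ord 1]], .node [.node [.ord 25, .ord 1], .node [.ord 9, .ord 13]], .node [.node [.ord 35, .ord 20], .node [.ord 15, .ord 1]], .node [.node [.ord 6, .ord 19], .node [.ord 1, .ord 8]], .node [.node [.ord 1, .ord 21], .node [.ord 8, .ord 21]]], .node [.node [.node [.ord 9, .ord 1], .node [.ord 0, .ord 19]], .node [.node [.ord 0, .ord 25], .node [.ord 3, .ord 12]], .node [.node [.ord 26, .ord 13], .node [.ord 6, .ord 27]], .node [.node [.ord 2, .ord 0], .node [.ord 16, .ord 3]], .node [.node [.ord 7, .ord 6], .node [.ord 0,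 .ord 24]], .node [.node [.ord 0, .ord 18], .node [.ord 19, .ord 2]], .node [.node [.ord 4, .ord 4], .node [.ord 20, .ord 0]], .node [.node [.ord 4, .ord 0], .node [.ord 10, .ord 20]]], .node [.node [.node [.ord 0, .ord 15], .node [.ord 1, .ord 5]], .node [.node [.ord 18, .ord 8], .node [.ord 4, .ord 4]], .node [.node [.ord 24, .ord 16], .node [.ord 5, .ord 20]], .node [.node [.ord 3, .ord 1], .node [.ord 4, .ord 18]], .node [.node [.ord 2, .ord 2], .node [.ord 3, .ord 5]], .node [.node [.ord 8, .ord 22], .node [.ord 6, .ord 11]], .node [.node [.ord 0, .ord 2], .node [.ord 13, .ord 5]], .node [.node [.ord 12, .ord 8], .node [.ord 4, .ord 4]]], .node [.node [.node [.ord 2, .ord 2], .node [.ord 0, .ord 9]], .node [.node [.ord 3, .ord 5], .node [.ord 10, .ord 13]], .node [.node [.ord 3, .ord 4], .node [.ord 22, .ord 6]], .node [.node [.ord 5, .ord 12], .node [.ord 2, .ord 28]], .node [.node [.ord 16, .ord 11], .node [.ord 7, .ord 9]], .node [.node [.ord 23, .ord 0], .node [.ord 18, .ord 3]], .node [.node [.ord 15,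 .ord 10], .node [.ord 3, .ord 13]], .node [.node [.ord 1, .ord 5], .node [.ord 42, .ord 8]]], .node [.node [.node [.ord 11, .ord 18], .node [.ord 10, .ord 8]], .node [.node [.ord 25, .ord 46], .node [.ord 1, .ord 4]], .node [.node [.ord 9, .ord 10], .node [.ord 21, .ord 19]], .node [.node [.ord 4, .ord 4], .node [.ord 8, .ord 37]], .node [.node [.ord 0, .ord 5], .node [.ord 17, .ord 16]], .node [.node [.ord 9, .ord 2], .node [.ord 5, .ord 1]], .node [.node [.ord 0, .ord 5], .node [.ord 2, .ord 2]], .node [.node [.ord 33, .ord 18], .node [.ord 4, .ord 39]]], .node [.node [.node [.ord 4, .ord 4], .node [.ord 17, .ord 13]], .node [.node [.ord 0, .ord 14], .node [.ord 24, .ord 2]], .node [.node [.ord 13, .ord 27], .node [.ord 7, .ord 8]], .node [.node [.ord 26, .ord 38], .node [.ord 22, .ord 1]], .node [.node [.ord 6, .ord 33], .node [.ord 7, .ord 1]], .node [.node [.ord 8, .ord 26], .node [.ord 5, .ord 13]], .node [.node [.ord 17, .ord 21], .node [.ord 0, .ord 9]], .node [.node [.ord 11, .ord 6], .node [.ord 5, .ord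 19]]], .node [.node [.node [.ord 6, .ord 0], .node [.ord 3, .ord 5]], .node [.node [.ord 16, .ord 10], .node [.ord 2, .ord 2]], .node [.node [.ord 8, .ord 11], .node [.ord 10, .ord 7]], .node [.node [.ord 10, .ord 40], .node [.ord 3, .ord 20]], .node [.node [.ord 0, .ord 15], .node [.ord 34, .ord 6]], .node [.node [.ord 11, .ord 19], .node [.ord 2, .ord 19]], .node [.node [.ord 7, .ord 1], .node [.ord 17, .ord 13]], .node [.node [.ord 9, .ord 1], .node [.ord 13, .ord 12]]], .node [.node [.node [.ord 1, .ord 6], .node [.ord 23, .ord 4]], .node [.node [.ord 6, .ord 5], .node [.ord 7, .ord 12]], .node [.node [.ord 15, .ord 8], .node [.ord 2, .ord 2]], .node [.node [.ord 10, .ord 7], .node [.ord 17, .ord 10]], .node [.node [.ord 8, .ord 2], .node [.ord 0, .ord 22]], .node [.node [.ord 12, .ord 7], .node [.ord 10, .ord 1]], .node [.node [.ord 19, .ord 17], .node [.ord 8, .ord 26]], .node [.node [.ord 0, .ord 6], .node [.ord 34, .ord 7]]]]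

theorem chk11P4_1 :
    chkSq gCode 4 (mm (mm (mm (nwCode 11) (wordC gCode ((reps 0).getD 0 0))) (wordC gCode ((reps 1).getD 4 0)))
      (wordC gCode ((reps 2).getD 1 0))) cert11P4_1 = true := by
  decide +kernel

/-- The node. -/
def cert11P4 : Cert := .node [cert11P4_0, cert11P4_1]

theorem chk11P4 : chkSq gCode 5
    (mm (mm (nwCode 11) (wordC gCode ((reps 0).getD 0 0))) (wordC gCode ((reps 1).getD 4 0))) cert11P4 = true := by
  refine chkSq_node (f := 4) (cs := [cert11P4_0, cert11P4_1]) (by decide +kernel) fun j hj _ => ?_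
  have hj' : j < 2 := hj
  interval_cases j
  exacts [chk11P4_0, chk11P4_1]

end CfsgLib.SpecD4Two.Square
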