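import Cfsg.Agent.Lib.SpecD4Two.Square.Cert11P0
import Cfsg.Agent.Lib.SpecD4Two.Square.Cert11P1
import Cfsg.Agent.Lib.SpecD4Two.Square.Cert11P2
import Cfsg.Agent.Lib.SpecD4Two.Square.Cert11P3
import Cfsg.Agent.Lib.SpecD4Two.Square.Cert11P4
import Cfsg.Agent.Lib.SpecD4Two.Square.Cert11P5
import Cfsg.Agent.Lib.SpecD4Two.Square.Cert11P6
import Cfsg.Agent.Lib.SpecD4Two.Square.Cert11P7

/-!
The certificate of the longest double coset.
-/

set_option autoImplicit false
set_option maxRecDepth 100000
set_option maxHeartbeats 4000000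
set_option Elab.async false

namespace CfsgLib.SpecD4Two.Square

/-- The inner node. -/
def cert11in : List Cert :=
  [cert11P0, cert11P1, cert11P2, cert11P3, cert11P4, cert11P5, cert11P6, cert11P7]

/-- The outer node. -/
def cert11 : List Cert :=
  [.node cert11in, .link 4 0 0, .link 1 0 0, .link 5 0 0, .link 2 0 0, .link 6 0 0, .link 3 0 0]

theorem chk11out :
    nodeOK gCode 0 (fun _ _ => true) (nwCode 11) cert11 = true := by decide +kernel

theorem chk11in : nodeOK gCode 1 (fun _ _ => true)
    (mm (nwCode 11) (wordC gCode ((reps 0).getD 0 0))) cert11in = true := by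
  decide +kernel

end CfsgLib.SpecD4Two.Square
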