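import Cfsg.Agent.Lib.SpecD4Two.Square.Check

/-!
The certificate of double coset number 2.
-/

set_option autoImplicit false
set_option maxRecDepth 100000
set_option maxHeartbeats 4000000
set_option Elab.async false

namespace CfsgLib.SpecD4Two.Square

/-- A certificate. -/
def cert2_0 : Cert := .node [.node [.node [.node [.node [.node [.ord 3, .ord 16], .link 24712 0 16384], .node [.node [.ord 15, .ord 5], .link 24848 0 16384], .link 4 1 0, .link 5 1 0, .link 1 1 0, .link 3 1 0, .link 2 1 0, .link 6 1 0], .node [.node [.node [.ord 4, .link 1160 0 0], .link 18568 0 16384], .node [.node [.ord 13, .link 1024 0 0], .link 24712 0 16384], .link 24984 0 8192, .link 24984 1 16384, .link 25256 0 8192, .link 25256 1 16384, .link 25528 0 8192, .link 25528 1 16384], .link 3 1 0, .link 2 1 0, .link 6 1 0, .link 4 1 0, .link 5 1 0, .link 1 1 0], .node [.node [.node [.node [.ord 1, .link 24576 0 0], .link 14341 0 16384], .node [.node [.ord 8, .link 24576 0 0], .link 10240 0 16384], .link 14340 1 24576, .link 14341 1 24576, .link 12289 1 24576, .link 7171 1 0, .link 7170 1 0, .link 6 1 0], .link 24712 0 9216,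 .link 17685 0 19456, .link 23964 0 19456, .link 25126 0 9216, .link 21166 0 19456, .link 25397 0 9216, .link 23485 0 21504]], .link 8 0 128, .link 21 0 768, .link 28 0 768, .link 38 0 128, .link 46 0 768, .link 53 0 128, .link 61 0 256]

/-- A certificate. -/
def cert2_1 : Cert := .node [.node [.node [.node [.node [.node [.ord 0, .ord 40], .link 16389 0 16384], .link 10242 0 24576, .link 4099 0 0, .link 30724 0 0, .link 11267 0 24576, .link 1027 0 0, .link 7174 0 0, .link 29701 0 0], .link 24244 0 22528, .link 23740 0 20480, .link 21006 0 22528, .link 11565 0 17408, .link 21404 0 16384, .link 10644 0 17408, .link 18213 0 22528], .node [.node [.node [.node [.ord 36, .link 24581 0 0], .link 16389 0 0], .link 10242 0 24576, .link 4099 0 0, .link 30724 0 16384, .link 11267 0 24576, .link 1027 0 0, .link 7174 0 0, .link 29701 0 16384], .link 11565 0 22528, .link 21006 0 2048, .link 18213 0 2048, .link 10644 0 22528, .link 23740 0 22528, .link 21404 0 19456, .link 24244 0 2048]], .link 8 0 896, .link 21 0 512, .link 166 0 14336, .link 38 0 896, .link 46 0 512, .link 136 0 25344, .link 128 0 128]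

/-- A certificate. -/
def cert2_2 : Cert := .node [.node [.node [.node [.node [.node [.ord 10, .ord 0], .link 16385 0 16384], .link 20486 0 24576, .link 19459 0 24576, .link 23556 0 24576, .link 22528 0 24576, .link 2054 0 0, .link 5125 0 0, .link 17413 0 24576], .link 26517 0 18432, .link 678 0 10240, .link 309 0 10240, .link 31900 0 18432, .link 776 0 10240, .link 2621 0 10240, .link 29102 0 18432], .node [.node [.node [.node [.ord 25, .link 24576 0 0], .link 16385 0 0], .link 20486 0 8192, .link 19459 0 8192, .link 23556 0 8192, .link 22528 0 8192, .link 2054 0 0, .link 5125 0 0, .link 17413 0 8192], .link 2621 0 31744, .link 29102 0 17408, .link 26517 0 17408, .link 776 0 11264, .link 309 0 11264, .link 678 0 11264, .link 31900 0 17408]], .link 8 0 384, .link 136 0 24832, .link 128 0 128, .link 38 0 384, .link 46 0 128, .link 53 0 384, .link 518 0 128]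

/-- A certificate. -/
def cert2_3 : Cert := .node [.node [.node [.node [.node [.node [.ord 13, .ord 1], .link 16389 0 16384], .link 23556 0 24576, .link 5125 0 0, .link 10242 0 24576, .link 1027 0 0, .link 6148 0 0, .link 28675 0 0, .link 19459 0 24576], .link 9509 0 14336, .link 7708 0 11264, .link 18236 0 22528, .link 15796 0 14336, .link 27796 0 11264, .link 32685 0 11264, .link 12942 0 14336], .node [.node [.node [.node [.ord 8, .link 24581 0 0], .link 16389 0 0], .link 23556 0 8192, .link 5125 0 0, .link 10242 0 24576, .link 1027 0 0, .link 6148 0 0, .link 28675 0 16384, .link 19459 0 8192], .link 7708 0 8192, .link 15796 0 26624, .link 32685 0 28672, .link 18236 0 20480, .link 9509 0 26624, .link 12942 0 26624, .link 27796 0 28672]], .link 8 0 256, .link 128 0 128, .link 136 0 24960, .link 38 0 256, .link 46 0 896, .link 53 0 256, .link 550 0 24960]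

/-- A certificate. -/
def cert2_4 : Cert := .node [.node [.node [.node [.node [.node [.ord 4, .ord 0], .link 16389 0 16384], .link 6144 0 0, .link 7169 0 0, .link 17411 0 24576, .link 29701 0 0, .link 11265 0 24576, .link 10240 0 24576, .link 20484 0 24576], .link 28066 0 15360, .link 18201 0 12288, .link 24248 0 12288, .link 15281 0 20480, .link 21010 0 12288, .link 12456 0 20480, .link 19726 0 12288], .node [.node [.node [.node [.ord 29, .link 24579 0 0], .link 16389 0 0], .link 6144 0 0, .link 7169 0 0, .link 17411 0 8192, .link 29701 0 16384, .link 11265 0 24576, .link 10240 0 24576, .link 20484 0 8192], .link 18201 0 24576, .link 15281 0 22528, .link 12456 0 22528, .link 24248 0 24576, .link 28066 0 13312, .link 19726 0 24576, .link 21010 0 24576]], .link 8 0 640, .link 518 0 128, .link 773 0 128, .link 38 0 640, .link 128 0 128, .link 53 0 640, .link 646 0 768]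

/-- A certificate. -/
def cert2_5 : Cert := .node [.node [.node [.node [.node [.node [.ord 25, .ord 8], .link 16390 0 16384], .link 5121 0 0, .link 17411 0 24576, .link 20484 0 24576, .link 2049 0 0, .link 7171 0 0, .link 3074 0 0, .link 22533 0 24576], .link 787 0 22528, .link 25507 0 19456, .link 181 0 22528, .link 1689 0 16384, .link 1417 0 17408, .link 7480 0 16384, .link 556 0 22528], .node [.node [.node [.node [.ord 6, .link 24576 0 0], .link 16390 0 0], .link 5121 0 0, .link 17411 0 8192, .link 20484 0 8192, .link 2049 0 0, .link 7171 0 0, .link 3074 0 0, .link 22533 0 8192], .link 7480 0 20480, .link 556 0 7168, .link 787 0 7168, .link 1417 0 22528, .link 181 0 7168, .link 25507 0 22528, .link 1689 0 20480]], .link 8 0 768, .link 166 0 14464, .link 646 0 768, .link 38 0 768, .link 518 0 128, .link 128 0 128, .link 136 0 25472]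

/-- A certificate. -/
def cert2_6 : Cert := .node [.node [.node [.node [.node [.node [.ord 11, .ord 7], .link 8197 0 16384], .link 19459 0 24576, .link 30724 0 0, .link 29701 0 0, .link 7174 0 0, .link 4099 0 0, .link 1027 0 0, .link 18434 0 24576], .link 565 0 20480, .link 1468 0 16384, .link 1932 0 17408, .link 812 0 20480, .link 24860 0 23552, .link 25237 0 23552, .link 166 0 20480], .node [.node [.node [.node [.ord 3, .link 24581 0 0], .link 8197 0 16384], .link 19459 0 8192, .link 30724 0 16384, .link 29701 0 16384, .link 7174 0 0, .link 4099 0 0, .link 1027 0 0, .link 18434 0 8192], .link 812 0 5120, .link 1932 0 20480, .link 166 0 5120, .link 25237 0 20480, .link 1468 0 18432, .link 24860 0 20480, .link 565 0 5120]], .link 8 0 512, .link 550 0 25216, .link 821 0 25216, .link 128 0 128, .link 136 0 25216, .link 518 0 128, .link 21006 0 12288]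

/-- A certificate. -/
def cert2 : Cert := .node [cert2_0, cert2_1, cert2_2, cert2_3, cert2_4, cert2_5, cert2_6]

theorem chk2 : chkSq gCode 7 (nwCode 2) cert2 = true := by decide +kernel

end CfsgLib.SpecD4Two.Square
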