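import Cfsg.Agent.Lib.SpecD4Two.Square.Check

/-!
The certificate of double coset number 3.
-/

set_option autoImplicit false
set_option maxRecDepth 100000
set_option maxHeartbeats 4000000
set_option Elab.async false

namespace CfsgLib.SpecD4Two.Square

/-- A certificate. -/
def cert3_0 : Cert := .node [.node [.node [.node [.node [.node [.ord 38, .ord 0], .link 16384 0 16384], .node [.node [.ord 8, .ord 26], .link 16384 0 16384], .node [.node [.ord 3, .ord 2], .link 16384 0 16384], .node [.node [.ord 3, .ord 4], .link 16384 0 16384], .node [.node [.ord 2, .ord 1], .link 16384 0 16384], .node [.node [.ord 17, .ord 17], .link 16384 0 16384], .node [.node [.ord 0, .ord 4], .link 16384 0 16384], .node [.node [.ord 1, .ord 0], .link 16384 0 16384]], .link 128 0 1024, .link 256 0 2048, .link 384 0 3072, .link 512 0 4096, .link 640 0 5120, .link 768 0 6144, .link 896 0 7168], .link 64 0 16384], .link 1024 0 1024, .link 2048 0 2048, .link 3072 0 3072, .link 4096 0 4096, .link 5120 0 5120, .link 6144 0 6144, .link 7168 0 7168]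

/-- A certificate. -/
def cert3 : Cert := .node [cert3_0, .link 4 0 0, .link 1 0 0, .link 5 0 0, .link 2 0 0, .link 6 0 0, .link 3 0 0]

theorem chk3 : chkSq gCode 7 (nwCode 3) cert3 = true := by decide +kernel

end CfsgLib.SpecD4Two.Square
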