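import Cfsg.Agent.Lib.SpecD4Two.Square.Check

/-!
The certificate of double coset number 7.
-/

set_option autoImplicit false
set_option maxRecDepth 100000
set_option maxHeartbeats 4000000
set_option Elab.async false

namespace CfsgLib.SpecD4Two.Square

/-- A certificate. -/
def cert7_0 : Cert := .node [.node [.node [.node [.node [.node [.ord 1, .ord 10], .node [.ord 3, .ord 16]], .node [.node [.ord 11, .ord 12], .node [.ord 10, .ord 3]], .link 4 1 0, .link 5 1 0, .link 1 1 0, .link 3 1 0, .link 2 1 0, .link 6 1 0], .node [.node [.node [.ord 11, .ord 1], .node [.ord 4, .ord 19]], .node [.node [.ord 19, .ord 32], .node [.ord 7, .ord 15]], .node [.node [.ord 19, .ord 11], .node [.ord 8, .ord 15]], .node [.node [.ord 19, .ord 31], .node [.ord 6, .ord 0]], .node [.node [.ord 1, .ord 14], .node [.ord 0, .ord 1]], .node [.node [.ord 8, .ord 3], .node [.ord 13, .ord 5]], .node [.node [.ord 5, .ord 3], .node [.ord 3, .ord 2]], .node [.node [.ord 13, .ord 23], .node [.ord 6, .ord 2]]], .link 3 1 0, .link 2 1 0, .link 6 1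 0, .link 4 1 0, .link 5 1 0, .link 1 1 0], .link 64 0 8192], .link 128 0 128, .link 261 0 768, .link 388 0 768, .link 518 0 128, .link 646 0 768, .link 773 0 128, .link 901 0 256]

/-- A certificate. -/
def cert7_1 : Cert := .node [.node [.node [.node [.node [.node [.ord 14, .ord 18], .node [.ord 0, .ord 2]], .node [.node [.ord 10, .ord 4], .node [.ord 0, .ord 14]], .link 4 1 0, .link 5 1 0, .link 1 1 0, .link 3 1 0, .link 2 1 0, .link 6 1 0], .node [.node [.node [.ord 49, .ord 2], .node [.ord 21, .ord 12]], .node [.node [.ord 0, .ord 12], .node [.ord 17, .ord 1]], .node [.node [.ord 0, .ord 5], .node [.ord 2, .ord 9]], .node [.node [.ord 14, .ord 3], .node [.ord 16, .ord 10]], .node [.node [.ord 20, .ord 3], .node [.ord 17, .ord 4]], .node [.node [.ord 0, .ord 34], .node [.ord 4, .ord 18]], .node [.node [.ord 4, .ord 10], .node [.ord 0, .ord 3]], .node [.node [.ord 11, .ord 1], .node [.ord 1, .ord 12]]], .link 3 1 0, .link 2 1 0, .link 6 1 0, .link 4 1 0, .link 5 1 0, .link 1 1 0], .link 64 0 8192], .link 518 0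 128, .link 388 0 768, .link 901 0 256, .link 773 0 128, .link 261 0 768, .link 646 0 768, .link 128 0 128]

/-- A certificate. -/
def cert7_2 : Cert := .node [.node [.node [.node [.node [.node [.ord 3, .ord 0], .node [.ord 6, .ord 3]], .node [.node [.ord 7, .ord 0], .node [.ord 10, .ord 8]], .link 4 1 0, .link 5 1 0, .link 1 1 0, .link 3 1 0, .link 2 1 0, .link 6 1 0], .node [.node [.node [.ord 7, .ord 2], .node [.ord 8, .ord 1]], .node [.node [.ord 4, .ord 3], .node [.ord 15, .ord 2]], .node [.node [.ord 22, .ord 19], .node [.ord 21, .ord 2]], .node [.node [.ord 1, .ord 18], .node [.ord 11, .ord 1]], .node [.node [.ord 13, .ord 12], .node [.ord 2, .ord 5]], .node [.node [.ord 3, .ord 27], .node [.ord 11, .ord 2]], .node [.node [.ord 15, .ord 19], .node [.ord 14, .ord 4]], .node [.node [.ord 9, .ord 17], .node [.ord 18, .ord 9]]], .link 3 1 0, .link 2 1 0, .link 6 1 0, .link 4 1 0, .link 5 1 0, .link 1 1 0], .link 64 0 8192], .link 773 0 128, .link 901 0 256, .link 128 0 128, .link 646 0 768, .link 388 0 768, .link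 261 0 768, .link 518 0 128]

/-- A certificate. -/
def cert7_3 : Cert := .node [.node [.node [.node [.node [.node [.ord 0, .ord 7], .node [.ord 4, .ord 8]], .node [.node [.ord 10, .ord 5], .node [.ord 0, .ord 14]], .link 4 1 0, .link 5 1 0, .link 1 1 0, .link 3 1 0, .link 2 1 0, .link 6 1 0], .node [.node [.node [.ord 9, .ord 27], .node [.ord 0, .ord 9]], .node [.node [.ord 19, .ord 22], .node [.ord 17, .ord 20]], .node [.node [.ord 15, .ord 7], .node [.ord 8, .ord 5]], .node [.node [.ord 0, .ord 2], .node [.ord 4, .ord 5]], .node [.node [.ord 12, .ord 2], .node [.ord 0, .ord 14]], .node [.node [.ord 10, .ord 43], .node [.ord 10, .ord 11]], .node [.node [.ord 24, .ord 4], .node [.ord 6, .ord 18]], .node [.node [.ord 27, .ord 6], .node [.ord 0, .ord 5]]], .link 3 1 0, .link 2 1 0, .link 6 1 0, .link 4 1 0, .link 5 1 0, .link 1 1 0], .link 64 0 8192], .link 646 0 768, .link 128 0 128, .link 518 0 128, .link 261 0 768, .link 901 0 256, .link 388 0 768, .link 773 0 128]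

/-- A certificate. -/
def cert7_4 : Cert := .node [.node [.node [.node [.node [.node [.ord 2, .ord 9], .node [.ord 9, .ord 3]], .node [.node [.ord 12, .ord 20], .node [.ord 14, .ord 29]], .link 4 1 0, .link 5 1 0, .link 1 1 0, .link 3 1 0, .link 2 1 0, .link 6 1 0], .node [.node [.node [.ord 4, .ord 19], .node [.ord 11, .ord 7]], .node [.node [.ord 21, .ord 7], .node [.ord 13, .ord 11]], .node [.node [.ord 23, .ord 5], .node [.ord 0, .ord 6]], .node [.node [.ord 7, .ord 1], .node [.ord 1, .ord 0]], .node [.node [.ord 0, .ord 3], .node [.ord 10, .ord 7]], .node [.node [.ord 0, .ord 3], .node [.ord 4, .ord 10]], .node [.node [.ord 7, .ord 14], .node [.ord 17, .ord 4]], .node [.node [.ord 8, .ord 17], .node [.ord 20, .ord 5]]], .link 3 1 0, .link 2 1 0, .link 6 1 0, .link 4 1 0, .link 5 1 0, .link 1 1 0], .link 64 0 8192], .link 261 0 768, .link 518 0 128, .link 773 0 128, .link 388 0 768, .link 128 0 128, .link 901 0 256, .link 646 0 768]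

/-- A certificate. -/
def cert7_5 : Cert := .node [.node [.node [.node [.node [.node [.ord 13, .ord 26], .node [.ord 4, .ord 3]], .node [.node [.ord 3, .ord 7], .node [.ord 6, .ord 27]], .link 4 1 0, .link 5 1 0, .link 1 1 0, .link 3 1 0, .link 2 1 0, .link 6 1 0], .node [.node [.node [.ord 3, .ord 6], .node [.ord 36, .ord 27]], .node [.node [.ord 8, .ord 17], .node [.ord 16, .ord 3]], .node [.node [.ord 1, .ord 17], .node [.ord 0, .ord 1]], .node [.node [.ord 12, .ord 9], .node [.ord 9, .ord 4]], .node [.node [.ord 13, .ord 18], .node [.ord 6, .ord 2]], .node [.node [.ord 28, .ord 2], .node [.ord 2, .ord 0]], .node [.node [.ord 29, .ord 1], .node [.ord 8, .ord 8]], .node [.node [.ord 4, .ord 7], .node [.ord 11, .ord 11]]], .link 3 1 0, .link 2 1 0, .link 6 1 0, .link 4 1 0, .link 5 1 0, .link 1 1 0], .link 64 0 8192], .link 388 0 768, .link 773 0 128, .link 646 0 768, .link 901 0 256, .link 518 0 128, .link 128 0 128, .link 261 0 768]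

/-- A certificate. -/
def cert7_6 : Cert := .node [.node [.node [.node [.node [.node [.ord 29, .ord 10], .node [.ord 1, .ord 5]], .node [.node [.ord 2, .ord 23], .node [.ord 2, .ord 7]], .link 4 1 0, .link 5 1 0, .link 1 1 0, .link 3 1 0, .link 2 1 0, .link 6 1 0], .node [.node [.node [.ord 7, .ord 0], .node [.ord 1, .ord 2]], .node [.node [.ord 10, .ord 21], .node [.ord 2, .ord 16]], .node [.node [.ord 3, .ord 15], .node [.ord 2, .ord 7]], .node [.node [.ord 28, .ord 1], .node [.ord 7, .ord 30]], .node [.node [.ord 13, .ord 23], .node [.ord 2, .ord 14]], .node [.node [.ord 8, .ord 42], .node [.ord 23, .ord 9]], .node [.node [.ord 10, .ord 2], .node [.ord 27, .ord 31]], .node [.node [.ord 0, .ord 10], .node [.ord 6, .ord 2]]], .link 3 1 0, .link 2 1 0, .link 6 1 0, .link 4 1 0, .link 5 1 0, .link 1 1 0], .link 64 0 8192], .link 901 0 256, .link 646 0 768, .link 261 0 768, .link 128 0 128, .link 773 0 128, .link 518 0 128, .link 388 0 768]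

/-- A certificate. -/
def cert7 : Cert := .node [cert7_0, cert7_1, cert7_2, cert7_3, cert7_4, cert7_5, cert7_6]

theorem chk7 : chkSq gCode 7 (nwCode 7) cert7 = true := by decide +kernel

end CfsgLib.SpecD4Two.Square
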