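import Cfsg.Agent.Lib.SpecD4Two.Check
import Cfsg.Agent.Lib.SpecD4Two.Square.Data

/-!
Certificates that every non-trivial element of the natural group ³D₄(2) is a product of two elements
of a class of order thirteen.
-/

set_option autoImplicit false
set_option linter.unusedSectionVars false

namespace CfsgLib.SpecD4Two.Square

/-- The three bits of an entry. -/
def entK (r j : ℕ) : ℕ :=
  ((r >>> j) &&& 1) ^^^ (((r >>> (8 + j)) &&& 1) <<< 1) ^^^ (((r >>> (16 + j)) &&& 1) <<< 2)

/-- The code of the trace. -/
def trC (A : List ℕ) : ℕ := (List.finRange 8).foldl (fun s i => s ^^^ entK (A.getD i.val 0) i.val) 0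

/-- The test of the class. -/
def classC (A : List ℕ) : Bool :=
  trC A == 6 &&
    (let z3 := mm (mm A A) A
     let z6 := mm z3 z3
     mm (mm z6 z6) A == oneC)

/-- The check of a leaf. -/
def leafSq (A : List ℕ) : Cert → Bool
  | .inv [] => A == oneC
  | .ord i => decide (i < sqCodes.length) && classC (mm (sqCodes.getD i []) A)
  | _ => false

/-- The check of a certificate at level `7 - f`. -/
def chkSq (gC : Fin 13 → List ℕ) : ℕ → List ℕ → Cert → Bool
  | 0, A, e => leafSq A e
  | f + 1, A, .br cs => nodeOK gC (6 - f) (fun B e => chkSq gC f B e) A cs.kids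
  | _ + 1, _, _ => false

/-- A node is checked when its links and, separately, its other children are. -/
theorem chkSq_node {gC : Fin 13 → List ℕ} {f : ℕ} {A : List ℕ} {cs : List Cert}
    (h : nodeOK gC (6 - f) (fun _ _ => true) A cs = true)
    (hc : ∀ j < cs.length, isExp (cs.getD j (.ord 0)) = true →
      chkSq gC f (mm A (wordC gC ((reps (6 - f)).getD j 0))) (cs.getD j (.ord 0)) = true) :
    chkSq gC (f + 1) A (.node cs) = true := by
  rw [Cert.node, chkSq, Cert.kids_foldr]
  simp only [nodeOK, Bool.and_eq_true, List.all_eq_true, List.mem_range] at h ⊢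
  refine ⟨h.1, fun j hj => ?_⟩
  have h1 := h.2 j hj
  have h2 := hc j hj
  revert h1 h2
  generalize cs.getD j (.ord 0) = e
  cases e <;> simp [isExp]

/-- The code of a product of a Borel element, a Weyl representative and a Borel element. -/
def triC (t : ℕ × Fin 12 × ℕ) : List ℕ := mm (mm (wC t.1) (nwCode t.2.1)) (wC t.2.2)

/-- The triple of an entry of the tables. -/
def toTri (t : ℕ × ℕ × ℕ) : ℕ × Fin 12 × ℕ := (t.1, Fin.ofNat 12 t.2.1, t.2.2)

def tableB : Bool :=
  sqWords.length == sqCodes.length &&
    (List.range sqWords.length).all fun i =>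
      triC (toTri (sqWords.getD i (0, 0, 0))) == sqCodes.getD i [] && classC (sqCodes.getD i [])

/-- The code of the fifth power of the first element. -/
def fifthC : List ℕ :=
  let x := sqCodes.getD 0 []
  let x2 := mm x x
  mm (mm x2 x2) x

def fiveB' : Bool :=
  mm (triC (toTri fiveA)) (sqCodes.getD 0 []) == mm fiveCode (triC (toTri fiveA)) &&
    mm (triC (toTri fiveB)) fifthC == mm fiveCode (triC (toTri fiveB)) && fiveCode.length == 8

/-- The traces of the powers of the first element. -/
def powTrB : Bool :=
  (List.range 13).all fun k =>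
    (trC (powC (sqCodes.getD 0 []) k) == 6) == (k == 1 || k == 5 || k == 8 || k == 12)

theorem table_ok : tableB = true := by decide +kernel
theorem five_ok : fiveB' = true := by decide +kernel
theorem powTr_ok : powTrB = true := by decide +kernel

end CfsgLib.SpecD4Two.Square
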