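import Cfsg.Agent.Lib.SpecD4Two.Square.Tree
import Cfsg.Agent.Lib.TwistedStr.TorusD4
import Mathlib.GroupTheory.Sylow

/-!
In ³D₄(2) every non-trivial element is a product of two conjugates of one element of order thirteen.
-/

set_option autoImplicit false
set_option linter.unusedSectionVars false

namespace CfsgLib.SpecD4Two.Square

open Cfsg.Lie CfsgLib.ChevStr CfsgLib.OrthIso

variable {K : Type*} [Field K] [CharP K 2] {ω : K} (hω : ω ^ 3 = ω + 1)

theorem nU_mem (i : Fin 2) : nU hω i ∈ natGroup hω :=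
  Subgroup.mem_sup_right (Subgroup.subset_closure ⟨i, rfl⟩)

theorem nwU_mem (w : Fin 12) : nwU hω w ∈ natGroup hω := by
  refine list_prod_mem fun x hx => ?_
  obtain ⟨i, -, rfl⟩ := List.mem_map.1 hx
  exact nU_mem hω i

theorem good_of_cert {w : Fin 12} {e : Cert} (h : chkSq gCode 7 (nwCode w) e = true) : GoodW hω w :=
  good_of_coset hω (chk_sq hω 7 le_rfl _ _ _ (nwU_enc hω w) h)

theorem rotate {i : Fin 2} {w v v' : Fin 12} {d e : Mat8 K} (hd : d ∈ lev (gU hω) 0)
    (hw : nwU hω w = nU hω i * nwU hω v * d) (he : e ∈ lev (gU hω) 0)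
    (hstep : nwU hω v * nU hω i = nwU hω v' * e)
    (hmove : ∀ u ∈ USet hω i, ∃ b ∈ lev (gU hω) 0, nwU hω v * u = b * nwU hω v)
    (h : GoodW hω v') : GoodW hω w := by
  rintro x ⟨b, hb, b', hb', rfl⟩
  rw [show b * nwU hω w * b' = b * nU hω i * (nwU hω v * (d * b')) by rw [hw]; group]
  refine sq_conj hω (mul_mem (nwU_mem hω v) (mul_mem (Subgroup.mem_sup_left hd)
    (Subgroup.mem_sup_left hb'))) (h _ ?_)
  rw [show nwU hω v * (d * b') * (b * nU hω i) = nwU hω v * (d * b' * b) * nU hω i by group]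
  exact (cellData hω).right_up he hstep hmove (mul_mem (mul_mem hd hb') hb)

theorem shorten {i : Fin 2} {w v v' : Fin 12} {d e : Mat8 K} (hd : d ∈ lev (gU hω) 0)
    (hw : nwU hω w = nU hω i * nwU hω v * nU hω i * d) (he : e ∈ lev (gU hω) 0)
    (hstep : nwU hω v * nU hω i = nwU hω v' * e)
    (hmove : ∀ u ∈ USet hω i, ∃ b ∈ lev (gU hω) 0, nwU hω v * u = b * nwU hω v)
    (h : GoodW hω v) (h' : GoodW hω v') : GoodW hω w := by
  have D := cellData hω
  rintro x ⟨b, hb, b', hb', rfl⟩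
  rw [show b * nwU hω w * b' = b * nU hω i * (nwU hω v * nU hω i * (d * b')) by rw [hw]; group]
  refine sq_conj hω (mul_mem (mul_mem (nwU_mem hω v) (nU_mem hω i))
    (mul_mem (Subgroup.mem_sup_left hd) (Subgroup.mem_sup_left hb'))) ?_
  obtain ⟨u, hu, r, hr, hur⟩ := (cellData hω).factor i (d * b' * b) (mul_mem (mul_mem hd hb') hb)
  have hr' := (cellData hω).conjR i r hr
  rw [show nwU hω v * nU hω i * (d * b') * (b * nU hω i) =
    nwU hω v * (nU hω i * (d * b' * b) * nU hω i) by group, hur]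
  have hsq := (cellData hω).sq i
  by_cases h1 : u = 1
  · subst h1
    exact h _ ⟨1, one_mem _, nU hω i * r * nU hω i, (cellData hω).R_le i hr', by group⟩
  obtain ⟨c, hc, c', hc', hcc⟩ := (cellData hω).flip i u hu h1
  refine h' _ ?_
  have key : nwU hω v * (nU hω i * (u * r) * nU hω i) =
      nwU hω v * c * nU hω i * (c' * (nU hω i * r * nU hω i)) := by
    calc nwU hω v * (nU hω i * (u * r) * nU hω i) =
        nwU hω v * (nU hω i * u * (nU hω i * nU hω i) * r * nU hω i) := by rw [hsq]; group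
      _ = nwU hω v * (nU hω i * u * nU hω i * (nU hω i * r * nU hω i)) := by group
      _ = _ := by rw [hcc]; group
  rw [key]
  exact ((cellData hω).right_up he hstep hmove hc).right (mul_mem hc' ((cellData hω).R_le i hr'))

theorem good_all : ∀ w, GoodW hω w := by
  have g0 := good_of_cert hω chk0
  have g1 := good_of_cert hω chk1
  have g2 := good_of_cert hω chk2
  have g3 := good_of_cert hω chk3
  have g7 := good_of_cert hω chk7
  have g11 := good_longest hω
  have h := rot_ok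
  simp only [rotB, List.all_eq_true] at h
  have red : ∀ s i w v v' d e mv, (s, i, w, v, v', d, e, mv) ∈ rotTab →
      (s = true → GoodW hω v) → GoodW hω v' → GoodW hω w := by
    intro s i w v v' d e mv hr hv hv'
    have h1 := h _ hr
    simp only [Bool.and_eq_true, beq_iff_eq, List.all_eq_true, List.mem_range] at h1
    obtain ⟨⟨h1, h2⟩, h3⟩ := h1
    have hstep : nwU hω v * nU hω i = nwU hω v' * wordU (gU hω) e :=
      ((nwU_enc hω v).mul ω hω (nU_enc hω i)).ext ω ((nwU_enc hω v').mul ω hω (wU_enc hω e)) h2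
    have hmove : ∀ u ∈ USet hω i, ∃ b ∈ lev (gU hω) 0, nwU hω v * u = b * nwU hω v := by
      rintro _ ⟨y, hy, rfl⟩
      exact ⟨_, cut_zero_wordU_mem _, ((nwU_enc hω v).mul ω hω (wU_enc hω _)).ext ω
        ((wU_enc hω _).mul ω hω (nwU_enc hω v)) (h3 y hy)⟩
    cases s
    · exact rotate hω (cut_zero_wordU_mem d)
        ((nwU_enc hω w).ext ω (((nU_enc hω i).mul ω hω (nwU_enc hω v)).mul ω hω (wU_enc hω d)) h1)
        (cut_zero_wordU_mem e) hstep hmove hv'
    · exact shorten hω (cut_zero_wordU_mem d)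
        ((nwU_enc hω w).ext ω ((((nU_enc hω i).mul ω hω (nwU_enc hω v)).mul ω hω
          (nU_enc hω i)).mul ω hω (wU_enc hω d)) h1)
        (cut_zero_wordU_mem e) hstep hmove (hv rfl) hv'
  have g4 : GoodW hω 4 := red _ _ _ _ _ _ _ _ (List.mem_cons_self ..) (fun e => by simp at e) g3
  have g5 : GoodW hω 5 := red _ _ _ _ _ _ _ _
    (List.mem_cons_of_mem _ (List.mem_cons_self ..)) (fun _ => g2) g4
  have g6 : GoodW hω 6 := red _ _ _ _ _ _ _ _
    (List.mem_cons_of_mem _ (List.mem_cons_of_mem _ (List.mem_cons_self ..))) (fun _ => g1) g3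
  have g8 : GoodW hω 8 := red _ _ _ _ _ _ _ _ (List.mem_cons_of_mem _ (List.mem_cons_of_mem _
    (List.mem_cons_of_mem _ (List.mem_cons_self ..)))) (fun e => by simp at e) g7
  have g9 : GoodW hω 9 := red _ _ _ _ _ _ _ _ (List.mem_cons_of_mem _ (List.mem_cons_of_mem _
    (List.mem_cons_of_mem _ (List.mem_cons_of_mem _ (List.mem_cons_self ..))))) (fun _ => g6) g8
  have g10 : GoodW hω 10 := red _ _ _ _ _ _ _ _ (List.mem_cons_of_mem _ (List.mem_cons_of_mem _
    (List.mem_cons_of_mem _ (List.mem_cons_of_mem _ (List.mem_cons_of_mem _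
      (List.mem_cons_self ..)))))) (fun _ => g5) g7
  intro w
  fin_cases w
  exacts [g0, g1, g2, g3, g4, g5, g6, g7, g8, g9, g10, g11]

/-- Every element is trivial or a quotient of two elements of the class. -/
theorem natGroup_sq {x : Mat8 K} (hx : x ∈ natGroup hω) :
    x = 1 ∨ ∃ y z, InC hω y ∧ InC hω z ∧ x = y⁻¹ * z := by
  obtain ⟨w, hw⟩ := (cellData hω).exists_cell hx
  exact good_all hω w x hw hx

/-- The generators as products of the root elements. -/
def spanB : Bool :=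
  let A := fun c => wC (c * 8)
  let T := fun c => mm (mm (xCode 5 c) (xCode 10 (sqC c))) (xCode 11 (sqC (sqC c)))
  let P := wC 64
  let M := xCode 9 1
  let s := nCode 0
  let t := nCode 1
  s == mm (mm (A 1) (T 1)) (A 1) && t == mm (mm P M) P &&
    gCode 0 == mm (mm (mm (A 2) (T 5)) (A 2)) s &&
    gCode 1 == A 1 && gCode 2 == A 2 && gCode 3 == A 4 && gCode 4 == P &&
    gCode 5 == mm (mm t (A 1)) t && gCode 6 == mm (mm t (A 2)) t && gCode 7 == mm (mm t (A 4)) t &&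
    gCode 8 == mm (mm s (gCode 5)) s && gCode 9 == mm (mm s (gCode 6)) s &&
    gCode 10 == mm (mm s (gCode 7)) s && gCode 11 == mm (mm s P) s &&
    gCode 12 == mm (mm t (gCode 11)) t

theorem span_ok : spanB = true := by decide +kernel

theorem exists_square [Fintype K] (hK : Fintype.card K = 8) :
    ∃ x : ↥(twistedD4 K 2), orderOf x = 13 ∧ ∀ g : ↥(twistedD4 K 2), g ≠ 1 →
      ∃ u v : ↥(twistedD4 K 2), g = (u * x * u⁻¹) * (v * x * v⁻¹) := by
  classical
  have : Fact (Nat.Prime 2) := ⟨Nat.prime_two⟩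
  have : Fact (Nat.Prime 13) := ⟨by norm_num⟩
  have : ExpChar K 2 := ExpChar.prime Nat.prime_two
  obtain ⟨ω, hω⟩ : ∃ ω : K, ω ^ 3 = ω + 1 := by
    obtain ⟨t, h0, h1⟩ : ∃ t : K, t ≠ 0 ∧ t ≠ 1 := by
      by_contra hne
      push Not at hne
      have h2 : (Finset.univ : Finset K) ⊆ {0, 1} := fun t _ => by
        rw [Finset.mem_insert, Finset.mem_singleton]
        exact or_iff_not_imp_left.2 (hne t)
      have := (Finset.card_le_card h2).trans Finset.card_le_two
      rw [Finset.card_univ, hK] at this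
      omega
    have h7 : t ^ 7 = 1 := by
      have := FiniteField.pow_card_sub_one_eq_one t h0
      rwa [hK] at this
    have h2 : (2 : K) = 0 := CharTwo.two_eq_zero
    have : (t ^ 3 + t + 1) * (t ^ 3 + t ^ 2 + 1) = 0 := by
      refine (mul_eq_zero.1 ?_).resolve_left (sub_ne_zero.2 h1)
      linear_combination h7 + (t ^ 4 - t ^ 3) * h2
    rcases mul_eq_zero.1 this with h | h
    · exact ⟨t, by linear_combination h - (t + 1) * h2⟩
    · exact ⟨t + 1, by linear_combination h + (t ^ 2 + t - 1) * h2⟩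
  obtain ⟨ρ, hρ, hmem, hw⟩ := exists_natural hK hω
  -- the image is the whole natural group
  let InR : List ℕ → Prop := fun A => ∃ g, Enc ω (ρ g) A
  have hmul : ∀ A B, InR A → InR B → InR (mm A B) := fun A B ⟨g, hg⟩ ⟨g', hg'⟩ =>
    ⟨g * g', by rw [map_mul]; exact hg.mul ω hω hg'⟩
  have hx : ∀ r < chevD4.nroots, ∀ c < 8,
      Enc ω (toMat ((modelD4 K).X r (evC ω c))) (xCode r c) := fun r hr c hc => toMat_X hr hc
  have tri : ∀ a b d : ℕ, (a, b, d) ∈ [(d4p1, d4p3, d4p4), (d4m1, d4m3, d4m4)] → a < chevD4.nroots →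
      b < chevD4.nroots → d < chevD4.nroots → ∀ c < 8,
        InR (mm (mm (xCode a c) (xCode b (sqC c))) (xCode d (sqC (sqC c)))) := by
    intro a b d hm ha hb hd c hc
    have hwm : [(a, evC ω c), (b, evC ω c ^ 2), (d, evC ω c ^ 2 ^ 2)] ∈ d4Words K 2 :=
      Or.inr ⟨evC ω c, (a, b, d), hm, rfl⟩
    have hin : (coreD4 K).wordGL _ ∈ twistedD4 K 2 := (coreD4 K).wordGL_mem_gen hwm
    refine ⟨⟨_, hin⟩, ?_⟩
    rw [hw _ hwm hin]
    simp only [List.map_cons, List.map_nil, List.prod_cons, List.prod_nil, mul_one, ← mul_assoc]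
    rw [show evC ω c ^ 2 ^ 2 = evC ω (sqC (sqC c)) by
      rw [evC_sqC hω (sqC_lt hc), evC_sqC hω hc, ← pow_mul]; norm_num, ← evC_sqC hω hc]
    exact ((hx a ha c hc).mul ω hω (hx b hb _ (sqC_lt hc))).mul ω hω
      (hx d hd _ (sqC_lt (sqC_lt hc)))
  have single : ∀ r, r ∈ [d4p2, d4m2] → r < chevD4.nroots → InR (xCode r 1) := by
    intro r hr hlt
    have hwm : [(r, evC ω 1)] ∈ d4Words K 2 :=
      Or.inl ⟨evC ω 1, by rw [evC_one, one_pow], r, hr, rfl⟩
    have hin : (coreD4 K).wordGL _ ∈ twistedD4 K 2 := (coreD4 K).wordGL_mem_gen hwm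
    refine ⟨⟨_, hin⟩, ?_⟩
    rw [hw _ hwm hin]
    simpa using hx r hlt 1 (by norm_num)
  have hgb := gen_ok
  simp only [genB, Bool.and_eq_true, beq_iff_eq, List.all_eq_true, List.mem_range] at hgb
  obtain ⟨⟨⟨hp1, -⟩, -, -⟩, htr⟩ := hgb
  have hA : ∀ c < 8, InR (wC (c * 8)) := fun c hc => by
    rw [← (htr c hc).1]
    exact tri d4p1 d4p3 d4p4 (by simp) (by decide) (by decide) (by decide) c hc
  have hT : ∀ c < 8, InR (mm (mm (xCode 5 c) (xCode 10 (sqC c))) (xCode 11 (sqC (sqC c)))) :=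
    fun c hc => tri d4m1 d4m3 d4m4 (by simp) (by decide) (by decide) (by decide) c hc
  have hP : InR (wC 64) := hp1 ▸ single d4p2 (by simp) (by decide)
  have hM : InR (xCode 9 1) := single d4m2 (by simp) (by decide)
  have hs := span_ok
  simp only [spanB, Bool.and_eq_true, beq_iff_eq] at hs
  obtain ⟨⟨⟨⟨⟨⟨⟨⟨⟨⟨⟨⟨⟨⟨es, et⟩, e0⟩, e1⟩, e2⟩, e3⟩, e4⟩, e5⟩, e6⟩, e7⟩, e8⟩, e9⟩, e10⟩, e11⟩, e12⟩ := hs
  have ns : InR (nCode 0) := es ▸ hmul _ _ (hmul _ _ (hA 1 (by decide)) (hT 1 (by decide))) (hA 1 (by decide))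
  have nt : InR (nCode 1) := et ▸ hmul _ _ (hmul _ _ hP hM) hP
  have cs : ∀ A, InR A → InR (mm (mm (nCode 0) A) (nCode 0)) := fun A h => hmul _ _ (hmul _ _ ns h) ns
  have ct : ∀ A, InR A → InR (mm (mm (nCode 1) A) (nCode 1)) := fun A h => hmul _ _ (hmul _ _ nt h) nt
  have h5 : InR (gCode 5) := e5 ▸ ct _ (hA 1 (by decide))
  have h6 : InR (gCode 6) := e6 ▸ ct _ (hA 2 (by decide))
  have h7 : InR (gCode 7) := e7 ▸ ct _ (hA 4 (by decide))
  have h11 : InR (gCode 11) := e11 ▸ cs _ hP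
  have hg : ∀ j, InR (gCode j) := by
    intro j
    fin_cases j
    exacts [e0 ▸ hmul _ _ (hmul _ _ (hmul _ _ (hA 2 (by decide)) (hT 5 (by decide))) (hA 2 (by decide))) ns,
      e1 ▸ hA 1 (by decide), e2 ▸ hA 2 (by decide), e3 ▸ hA 4 (by decide), e4 ▸ hP, h5, h6, h7,
      e8 ▸ cs _ h5, e9 ▸ cs _ h6, e10 ▸ cs _ h7, h11, e12 ▸ ct _ h11]
  have hrange : ρ.range = natGroup hω := by
    refine le_antisymm (by rintro _ ⟨g, rfl⟩; exact hmem g) (sup_le ?_ ?_)
    · refine (Subgroup.closure_le _).2 ?_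
      rintro _ ⟨j, -, rfl⟩
      obtain ⟨g, hg⟩ := hg j
      exact ⟨g, hg.ext ω (gU_enc hω j) rfl⟩
    · refine (Subgroup.closure_le _).2 ?_
      rintro _ ⟨i, rfl⟩
      fin_cases i
      · obtain ⟨g, hg⟩ := ns; exact ⟨g, hg.ext ω (nU_enc hω 0) rfl⟩
      · obtain ⟨g, hg⟩ := nt; exact ⟨g, hg.ext ω (nU_enc hω 1) rfl⟩
  obtain ⟨xm, hxm, hxe⟩ := table_enc hω (i := 0) (by decide)
  obtain ⟨x, hx'⟩ : xm ∈ ρ.range := hrange ▸ hxm.1
  subst hx'
  have hx13 : orderOf x = 13 := by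
    refine orderOf_eq_prime (hρ (by rw [map_pow, map_one, hxm.2.1])) fun e => ?_
    have h1 := hxm.2.2
    rw [e, map_one, trace_enc (enc_one ω)] at h1
    obtain ⟨b0, b1, b2⟩ := ent_bits hω (by simpa only [evC] using h1)
    revert b0 b1 b2
    decide +kernel
  refine ⟨x, hx13, ?_⟩
  -- the class
  have htrc : ∀ k < 13, trC (powC (sqCodes.getD 0 []) k) = 6 → k ∈ [1, 5, 8, 12] := by
    have h := powTr_ok
    simp only [powTrB, List.all_eq_true, List.mem_range, beq_iff_eq] at h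
    intro k hk e
    have := h k hk
    simp only [e, beq_self_eq_true] at this
    simpa [or_assoc] using this.symm
  have hlt : ∀ k < 13, trC (powC (sqCodes.getD 0 []) k) < 8 := by decide +kernel
  have hfive : ∃ u : ↥(twistedD4 K 2), u * x * u⁻¹ = x ^ 5 := by
    have h := five_ok
    simp only [fiveB', Bool.and_eq_true, beq_iff_eq] at h
    obtain ⟨⟨h1, h2⟩, h3⟩ := h
    obtain ⟨a, ha, hae⟩ := triC_enc hω (toTri fiveA)
    obtain ⟨b, hb, hbe⟩ := triC_enc hω (toTri fiveB)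
    have hx2 := hxe.mul ω hω hxe
    have h5 : Enc ω (ρ x ^ 5) fifthC := by
      simpa [pow_succ, mul_assoc, fifthC] using (hx2.mul ω hω hx2).mul ω hω hxe
    have hA := hae.mul ω hω hxe
    have hB := hbe.mul ω hω h5
    have e1 : dec ω (mm fiveCode (triC (toTri fiveA))) = (a * ρ x : Mat8 K) := by rw [hA.2, h1]
    have e2 : dec ω (mm fiveCode (triC (toTri fiveB))) = (b * ρ x ^ 5 : Mat8 K) := by rw [hB.2, h2]
    rw [dec_mm ω hω h3 hae.1, ← hae.2] at e1
    rw [dec_mm ω hω h3 hbe.1, ← hbe.2] at e2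
    have e : ((b * ρ x ^ 5 * b⁻¹ : Mat8 K) : Matrix (Fin 8) (Fin 8) K) =
        ((a * ρ x * a⁻¹ : Mat8 K) : Matrix (Fin 8) (Fin 8) K) := by
      rw [Units.val_mul, ← e2, Units.val_mul (a * ρ x), ← e1, mul_assoc, mul_assoc,
        ← Units.val_mul, ← Units.val_mul, mul_inv_cancel, mul_inv_cancel]
    obtain ⟨u, hu⟩ : b⁻¹ * a ∈ ρ.range := hrange ▸ mul_mem (inv_mem hb) ha
    refine ⟨u, hρ ?_⟩
    rw [map_mul, map_mul, map_inv, map_pow, hu]
    calc b⁻¹ * a * ρ x * (b⁻¹ * a)⁻¹ = b⁻¹ * (a * ρ x * a⁻¹) * b := by group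
      _ = _ := by rw [← Units.ext e]; group
  have hcard : Nat.card ↥(twistedD4 K 2) = 211341312 := by
    have h := Twisted.card_twistedD4 K (p := 2) (n := 1) (by rw [hK]; rfl) le_rfl
    simpa using h
  have hclass : ∀ y : ↥(twistedD4 K 2), InC hω (ρ y) → ∃ a, y = a * x * a⁻¹ := by
    intro y hy
    have hy13 : y ^ 13 = 1 := hρ (by rw [map_pow, map_one, hy.2.1])
    have hsyl : ∀ z : ↥(twistedD4 K 2), orderOf z = 13 → ∃ P : Sylow 13 ↥(twistedD4 K 2),
        (P : Subgroup _) = Subgroup.zpowers z := by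
      intro z hz
      have hc : Nat.card (Subgroup.zpowers z) = 13 := by rw [Nat.card_zpowers, hz]
      obtain ⟨P, hP⟩ := (IsPGroup.of_card (p := 13) (n := 1) (by rw [hc, pow_one])).exists_le_sylow
      refine ⟨P, (Subgroup.eq_of_le_of_card_ge hP ?_).symm⟩
      obtain ⟨k, hk⟩ := IsPGroup.iff_card.1 P.2
      have hd := Subgroup.card_subgroup_dvd_card (P : Subgroup ↥(twistedD4 K 2))
      rw [hcard, hk] at hd
      rw [hc, hk]
      rcases k with - | - | k
      · simp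
      · simp
      · exact absurd ((pow_dvd_pow 13 (show 2 ≤ k + 1 + 1 by omega)).trans hd) (by norm_num)
    have hk : ∃ a, ∃ k < 13, y = a * x ^ k * a⁻¹ := by
      by_cases hy1 : y = 1
      · exact ⟨1, 0, by norm_num, by simp [hy1]⟩
      obtain ⟨P, hP⟩ := hsyl x hx13
      obtain ⟨Q, hQ⟩ := hsyl y (orderOf_eq_prime hy13 hy1)
      obtain ⟨a, ha⟩ := MulAction.exists_smul_eq ↥(twistedD4 K 2) P Q
      have hy2 : y ∈ (Q : Subgroup _) := hQ ▸ Subgroup.mem_zpowers y
      rw [← ha, Sylow.coe_subgroup_smul, Subgroup.mem_pointwise_smul_iff_inv_smul_mem, hP] at hy2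
      obtain ⟨k, hk13, hk⟩ := mem_zpowers_iff_mem_range_orderOf.1 hy2 |> Finset.mem_image.1
      refine ⟨a, k, by rw [← hx13]; exact Finset.mem_range.1 hk13, ?_⟩
      have : a * x ^ k * a⁻¹ = a * (MulAut.conj a⁻¹ • y) * a⁻¹ := by rw [hk]; rfl
      rw [this, MulAut.smul_def, MulAut.conj_apply]; group
    obtain ⟨a, k, hk, rfl⟩ := hk
    have htr : evC ω (trC (powC (sqCodes.getD 0 []) k)) = evC ω 6 := by
      rw [← trace_enc (powC_enc hω hxe k), ← hy.2.2, map_mul, map_mul, map_inv, map_pow,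
        Units.val_mul, Units.val_mul, Matrix.trace_mul_cycle, ← Units.val_mul, ← Units.val_mul,
        inv_mul_cancel, one_mul]
    have h6 : trC (powC (sqCodes.getD 0 []) k) = 6 := by
      obtain ⟨b0, b1, b2⟩ := ent_bits hω (by simpa only [evC] using htr)
      have := hlt k hk
      revert b0 b1 b2
      generalize trC (powC (sqCodes.getD 0 []) k) = c at this
      interval_cases c <;> decide
    have hmem := htrc k hk h6
    obtain ⟨u, hu⟩ := hfive
    have h25 : u * (u * x * u⁻¹) * u⁻¹ = x ^ 12 := by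
      rw [hu, ← conj_pow, hu, ← pow_mul]
      exact pow_eq_pow_iff_modEq.2 (by rw [hx13]; decide)
    have h8 : u * (u * (u * x * u⁻¹) * u⁻¹) * u⁻¹ = x ^ 8 := by
      rw [h25, ← conj_pow, hu, ← pow_mul]
      exact pow_eq_pow_iff_modEq.2 (by rw [hx13]; decide)
    simp only [List.mem_cons, List.not_mem_nil, or_false] at hmem
    rcases hmem with rfl | rfl | rfl | rfl
    · exact ⟨a, by rw [pow_one]⟩
    · exact ⟨a * u, by rw [← hu]; group⟩
    · exact ⟨a * (u * u * u), by rw [← h8]; group⟩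
    · exact ⟨a * (u * u), by rw [← h25]; group⟩
  intro g hg
  rcases natGroup_sq hω (hmem g) with h | ⟨y, z, hy, hz, e⟩
  · exact absurd (hρ (by rw [h, map_one])) hg
  obtain ⟨y', rfl⟩ : y ∈ ρ.range := hrange ▸ hy.1
  obtain ⟨z', rfl⟩ : z ∈ ρ.range := hrange ▸ hz.1
  obtain ⟨a, rfl⟩ := hclass y' hy
  obtain ⟨b, rfl⟩ := hclass z' hz
  obtain ⟨u, hu⟩ := hfive
  refine ⟨a * (u * u), b, hρ ?_⟩
  rw [e, ← map_inv, ← map_mul]
  refine congrArg ρ ?_
  have h25 : u * (u * x * u⁻¹) * u⁻¹ = x⁻¹ := by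
    rw [hu, ← conj_pow, hu, ← pow_mul, eq_inv_iff_mul_eq_one, ← pow_succ]
    exact orderOf_dvd_iff_pow_eq_one.1 (by rw [hx13]; decide)
  calc (a * x * a⁻¹)⁻¹ * (b * x * b⁻¹) = a * x⁻¹ * a⁻¹ * (b * x * b⁻¹) := by group
    _ = _ := by rw [← h25]; group

end CfsgLib.SpecD4Two.Square
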