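import Cfsg.Agent.Lib.SpecD4Two.Hom
import Cfsg.Agent.Lib.SpecD4Two.Square.Cert0
import Cfsg.Agent.Lib.SpecD4Two.Square.Cert1
import Cfsg.Agent.Lib.SpecD4Two.Square.Cert2
import Cfsg.Agent.Lib.SpecD4Two.Square.Cert3
import Cfsg.Agent.Lib.SpecD4Two.Square.Cert7
import Cfsg.Agent.Lib.SpecD4Two.Square.Cert11

/-!
Every non-trivial element of the natural group ³D₄(2) is a product of two elements of order thirteen
with a fixed trace.
-/

set_option autoImplicit false
set_option linter.unusedSectionVars false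

namespace CfsgLib.SpecD4Two.Square

variable {K : Type*} [Field K] [CharP K 2] {ω : K} (hω : ω ^ 3 = ω + 1)

/-- The class. -/
def InC (g : Mat8 K) : Prop :=
  g ∈ natGroup hω ∧ g ^ 13 = 1 ∧ Matrix.trace (g : Matrix (Fin 8) (Fin 8) K) = evC ω 6

/-- Trivial or the inverse of an element of the class times another one. -/
def Sq (g : Mat8 K) : Prop :=
  g ∈ natGroup hω → g = 1 ∨ ∃ y z, InC hω y ∧ InC hω z ∧ g = y⁻¹ * z

theorem InC.conj {g : Mat8 K} (h : InC hω g) {a : Mat8 K} (ha : a ∈ natGroup hω) :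
    InC hω (a * g * a⁻¹) := by
  refine ⟨mul_mem (mul_mem ha h.1) (inv_mem ha), by rw [conj_pow, h.2.1, mul_one, mul_inv_cancel], ?_⟩
  rw [Units.val_mul, Units.val_mul, Matrix.trace_mul_cycle, ← Units.val_mul, ← Units.val_mul,
    inv_mul_cancel, one_mul, h.2.2]

theorem sq_conj {a : Mat8 K} (ha : a ∈ natGroup hω) {b : Mat8 K} (h : Sq hω (a * b)) :
    Sq hω (b * a) := by
  intro hba
  rcases h (by simpa [mul_assoc] using mul_mem (mul_mem ha hba) (inv_mem ha)) with h1 | ⟨y, z, hy, hz, e⟩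
  · exact Or.inl (by rw [eq_inv_of_mul_eq_one_right h1, inv_mul_cancel])
  · refine Or.inr ⟨a⁻¹ * y * (a⁻¹)⁻¹, a⁻¹ * z * (a⁻¹)⁻¹, hy.conj hω (inv_mem ha),
      hz.conj hω (inv_mem ha), ?_⟩
    calc b * a = a⁻¹ * (a * b) * a := by group
      _ = _ := by rw [e]; group

theorem entK_eq (r j : ℕ) : entK r j = entC r j := by
  simp only [entK, entC, Nat.shiftLeft_eq, Nat.and_one_is_mod, Nat.shiftRight_eq_div_pow,
    ← Nat.toNat_testBit]
  cases r.testBit j <;> cases r.testBit (8 + j) <;> cases r.testBit (16 + j) <;> decide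

theorem trace_enc {g : Mat8 K} {A : List ℕ} (h : Enc ω g A) :
    Matrix.trace (g : Matrix (Fin 8) (Fin 8) K) = evC ω (trC A) := by
  rw [h.2, Matrix.trace, Fin.sum_univ_eight]
  simp [trC, List.finRange_succ, dec, ent_eq_evC, entK_eq, evC_xor, evC_zero, add_assoc]

theorem triC_enc (t : ℕ × Fin 12 × ℕ) :
    ∃ a ∈ natGroup hω, Enc ω a (triC t) := by
  refine ⟨wordU (gU hω) t.1 * nwU hω t.2.1 * wordU (gU hω) t.2.2,
    mul_mem (mul_mem (Subgroup.mem_sup_left (cut_zero_wordU_mem _)) ?_)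
      (Subgroup.mem_sup_left (cut_zero_wordU_mem _)),
    ((wU_enc hω _).mul ω hω (nwU_enc hω _)).mul ω hω (wU_enc hω _)⟩
  refine list_prod_mem fun x hx => ?_
  obtain ⟨i, -, rfl⟩ := List.mem_map.1 hx
  exact Subgroup.mem_sup_right (Subgroup.subset_closure ⟨i, rfl⟩)

theorem class_enc {g : Mat8 K} {A : List ℕ} (hA : Enc ω g A) (hg : g ∈ natGroup hω)
    (h : classC A = true) : InC hω g := by
  simp only [classC, Bool.and_eq_true, beq_iff_eq] at h
  refine ⟨hg, ?_, by rw [trace_enc hA, h.1]⟩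
  have h3 := (hA.mul ω hω hA).mul ω hω hA
  have h12 := (h3.mul ω hω h3).mul ω hω (h3.mul ω hω h3)
  have := (h12.mul ω hω hA).ext ω (enc_one ω) h.2
  rw [← this]
  simp only [pow_succ, pow_zero, one_mul, mul_assoc]

theorem table_enc {i : ℕ} (hi : i < sqCodes.length) :
    ∃ t, InC hω t ∧ Enc ω t (sqCodes.getD i []) := by
  have h := table_ok
  simp only [tableB, Bool.and_eq_true, beq_iff_eq, List.all_eq_true, List.mem_range] at h
  obtain ⟨h1, h2⟩ := h.2 i (h.1.symm ▸ hi)
  obtain ⟨a, ha, he⟩ := triC_enc hω (toTri (sqWords.getD i (0, 0, 0)))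
  rw [h1] at he
  exact ⟨a, class_enc hω he ha h2, he⟩

theorem leaf_sq {g : Mat8 K} {A : List ℕ} {e : Cert} (hA : Enc ω g A) (h : leafSq A e = true) :
    Sq hω g := by
  intro hg
  cases e with
  | inv Y =>
    cases Y with
    | nil =>
      simp only [leafSq, beq_iff_eq] at h
      exact Or.inl (hA.ext ω (enc_one ω) h)
    | cons a Y => simp [leafSq] at h
  | ord i =>
    simp only [leafSq, Bool.and_eq_true, decide_eq_true_eq] at h
    obtain ⟨t, ht, he⟩ := table_enc hω h.1
    exact Or.inr ⟨t, t * g, ht, class_enc hω (he.mul ω hω hA) (mul_mem ht.1 hg) h.2, by group⟩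
  | _ => simp [leafSq] at h

/-- All elements of a coset are good. -/
def GoodC (L : ℕ) (a : Mat8 K) : Prop := ∀ m ∈ lev (gU hω) L, Sq hω (a * m)

theorem node_sq {L : ℕ} (hL : L < 7) {a : Mat8 K} {A : List ℕ} {cs : List Cert} (hA : Enc ω a A)
    {chkR : List ℕ → Cert → Bool} (h : nodeOK gCode L chkR A cs = true)
    (hrec : ∀ j < cs.length, isExp (cs.getD j (.ord 0)) = true →
      chkR (mm A (wC ((reps L).getD j 0))) (cs.getD j (.ord 0)) = true →
      GoodC hω (L + 1) (a * wordU (gU hω) ((reps L).getD j 0))) :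
    GoodC hω L a := by
  simp only [nodeOK, Bool.and_eq_true, beq_iff_eq, List.all_eq_true, List.mem_range] at h
  obtain ⟨hlen, hall⟩ := h
  have hexp : ∀ j < cs.length, isExp (cs.getD j (.ord 0)) = true →
      GoodC hω (L + 1) (a * wordU (gU hω) ((reps L).getD j 0)) := fun j hj he => by
    refine hrec j hj he ?_
    have h1 := hall j hj
    revert h1 he
    generalize cs.getD j (.ord 0) = e
    cases e <;> simp [isExp]
  intro x hx
  obtain ⟨j, hj, m, hm, rfl⟩ := split_spec hω L hL x hx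
  rw [← hlen] at hj
  rw [← mul_assoc]
  by_cases he : isExp (cs.getD j (.ord 0)) = true
  · exact hexp j hj he m hm
  have h1 := hall j hj
  revert he h1
  generalize cs.getD j (.ord 0) = e
  intro he h1
  cases e with
  | link c t m' =>
    simp only [Bool.and_eq_true, decide_eq_true_eq, beq_iff_eq] at h1
    obtain ⟨⟨⟨ht, hte⟩, hml⟩, heq⟩ := h1
    have hw := wU_enc hω
    have e1 : wordU (gU hω) c * a * wordU (gU hω) ((reps L).getD j 0) =
        a * wordU (gU hω) ((reps L).getD t 0) * wordU (gU hω) m' * wordU (gU hω) c :=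
      ((((hw c).mul ω hω hA).mul ω hω (hw _))).ext ω
        ((((hA.mul ω hω (hw _)).mul ω hω (hw m')).mul ω hω (hw c))) heq
    have h2 := hexp t ht hte _ (mul_mem (wordU_mem_lev hml)
      (norm_spec hω (L + 1) _ (cut_zero_wordU_mem c) m hm))
    have e2 : wordU (gU hω) c * (a * wordU (gU hω) ((reps L).getD j 0) * m * (wordU (gU hω) c)⁻¹) =
        a * wordU (gU hω) ((reps L).getD t 0) *
          (wordU (gU hω) m' * (wordU (gU hω) c * m * (wordU (gU hω) c)⁻¹)) := by
      calc _ = wordU (gU hω) c * a * wordU (gU hω) ((reps L).getD j 0) * m * (wordU (gU hω) c)⁻¹ := by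
            group
        _ = _ := by rw [e1]; group
    rw [← e2] at h2
    simpa [← mul_assoc] using sq_conj hω (Subgroup.mem_sup_left (cut_zero_wordU_mem c)) h2
  | _ => simp [isExp] at he

theorem chk_sq : ∀ (f : ℕ), f ≤ 7 → ∀ (a : Mat8 K) (A : List ℕ) (e : Cert), Enc ω a A →
    chkSq gCode f A e = true → GoodC hω (7 - f) a
  | 0, _, a, A, e, hA, h => fun m hm => by
    have : lev (gU hω) 7 = ⊥ := by
      rw [lev, Subgroup.closure_eq_bot_iff]
      rintro _ ⟨j, hj, rfl⟩
      exfalso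
      have : gpos j ≤ 14 := by unfold gpos; split <;> omega
      change 15 ≤ gpos j at hj
      omega
    rw [Nat.sub_zero, this, Subgroup.mem_bot] at hm
    rw [hm, mul_one]
    exact leaf_sq hω hA h
  | f + 1, hf, a, A, .br cs, hA, h => by
    rw [chkSq] at h
    rw [show 7 - (f + 1) = 6 - f by omega]
    refine node_sq hω (by omega) hA h fun j hj he hj' => ?_
    rw [show 6 - f + 1 = 7 - f by omega]
    exact chk_sq f (by omega) _ _ _ (hA.mul ω hω (wU_enc hω _)) hj'
  | _ + 1, _, _, _, .inv _, _, h => by simp [chkSq] at h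
  | _ + 1, _, _, _, .ord _, _, h => by simp [chkSq] at h
  | _ + 1, _, _, _, .zero _, _, h => by simp [chkSq] at h
  | _ + 1, _, _, _, .link _ _ _, _, h => by simp [chkSq] at h
  | _ + 1, _, _, _, .nil, _, h => by simp [chkSq] at h
  | _ + 1, _, _, _, .cons _ _, _, h => by simp [chkSq] at h

/-- All elements of a double coset are good. -/
def GoodW (w : Fin 12) : Prop := CellData.GoodCell (lev (gU hω) 0) (nwU hω) (Sq hω) w

theorem good_of_coset {w : Fin 12} (h : GoodC hω 0 (nwU hω w)) : GoodW hω w := by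
  rintro x ⟨b, hb, b', hb', rfl⟩
  have h1 := h (b' * b) (mul_mem hb' hb)
  rw [← mul_assoc] at h1
  intro hx
  have hN : b ∈ natGroup hω := Subgroup.mem_sup_left hb
  -- conjugate by `b`
  rcases h1 (by simpa [mul_assoc] using mul_mem (mul_mem (inv_mem hN) hx) hN) with e | ⟨y, z, hy, hz, e⟩
  · refine Or.inl ?_
    calc b * nwU hω w * b' = b * (nwU hω w * b' * b) * b⁻¹ := by group
      _ = 1 := by rw [e]; group
  · refine Or.inr ⟨b * y * b⁻¹, b * z * b⁻¹, hy.conj hω hN, hz.conj hω hN, ?_⟩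
    calc b * nwU hω w * b' = b * (nwU hω w * b' * b) * b⁻¹ := by group
      _ = _ := by rw [e]; group

theorem good_longest : GoodW hω 11 := by
  refine good_of_coset hω ?_
  refine node_sq hω (L := 0) (by norm_num) (nwU_enc hω 11) chk11out fun j hj he _ => ?_
  obtain rfl : j = 0 := by
    by_contra hne
    revert he
    have : j < 7 := hj
    interval_cases j <;> simp_all [cert11, isExp, Cert.node]
  refine node_sq hω (L := 1) (by norm_num)
    ((nwU_enc hω 11).mul ω hω (wU_enc hω _)) chk11in fun y hy _ _ => ?_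
  have key : ∀ e : Cert, chkSq gCode 5 (mm (mm (nwCode 11) (wordC gCode ((reps 0).getD 0 0)))
      (wordC gCode ((reps 1).getD y 0))) e = true →
      GoodC hω (1 + 1) (nwU hω 11 * wordU (gU hω) ((reps 0).getD 0 0) *
        wordU (gU hω) ((reps 1).getD y 0)) := fun e h =>
    chk_sq hω 5 (by norm_num) _ _ e
      (((nwU_enc hω 11).mul ω hω (wU_enc hω _)).mul ω hω (wU_enc hω _)) h
  have : y < 8 := hy
  interval_cases y
  exacts [key _ chk11P0, key _ chk11P1, key _ chk11P2, key _ chk11P3, key _ chk11P4,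
    key _ chk11P5, key _ chk11P6, key _ chk11P7]

end CfsgLib.SpecD4Two.Square
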